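import Groth.Agent.AbExt6.Main

/-!
# Sections of a regular scheme over an affine open form a regular ring
-/

set_option autoImplicit false
set_option backward.isDefEq.respectTransparency.types false

universe u

open CategoryTheory AlgebraicGeometry

namespace Groth.Agent.AbExt6

theorem isRegularRing_sections {S : Scheme.{u}} [IsLocallyNoetherian S]
    (hreg : ∀ s : S, IsRegularLocalRing (S.presheaf.stalk s)) {Sa : S.Opens} (hSa : IsAffineOpen Sa) :
    IsRegularRing Γ(S, Sa) := by
  have : IsNoetherianRing Γ(S, Sa) := IsLocallyNoetherian.component_noetherian ⟨Sa, hSa⟩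
  refine isRegularRing_iff.mpr fun q hq => ?_
  let x : Spec Γ(S, Sa) := ⟨q, hq⟩
  have := hreg (hSa.fromSpec x)
  have : IsIso (hSa.fromSpec.stalkMap x) := inferInstance
  have : IsRegularLocalRing ((Spec Γ(S, Sa)).presheaf.stalk x) :=
    IsRegularLocalRing.of_ringEquiv (R := S.presheaf.stalk (hSa.fromSpec x))
      (asIso (hSa.fromSpec.stalkMap x)).commRingCatIsoToRingEquiv
  exact IsRegularLocalRing.of_ringEquiv (R := (Spec Γ(S, Sa)).presheaf.stalk x)
    (StructureSheaf.stalkIso Γ(S, Sa) x).toRingEquiv.symm

end Groth.Agent.AbExt6
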