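import Groth.Agent.Models7.ContractionSeq
import Groth.Agent.Models7.BiratDesc
import Groth.Agent.CAlgH.ExceptionalChart
import Groth.Agent.SDiv28.RegSeq
import Groth.Agent.SDiv28.KoszulH1
import Groth.Agent.AbVarLib.AffineConstant

/-!
# A morphism to a proper group scheme collapses the exceptional fibre of a point blow-up
-/

set_option autoImplicit false
set_option linter.style.haveILetI false
set_option backward.isDefEq.respectTransparency.types false
set_option maxHeartbeats 1000000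

universe u

open CategoryTheory CategoryTheory.Limits MonoidalCategory CartesianMonoidalCategory AlgebraicGeometry
  TopologicalSpace MvPolynomial IsLocalRing

namespace Groth.Agent.AbExt6

open Groth.Agent.CAlgH.QRBlowupChart in
/-- The exceptional part of a chart is an affine space over the centre, compatibly with the centre. -/
theorem exists_equiv {A : Type u} [CommRing A] {c : ℕ} (f : Fin c → A) (i0 : Fin c)
    (hq : CAlgX.IsQuasiRegular f) {I : Ideal A} (hI : I = Ideal.span (Set.range f))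
    (h : I ≤ (Ideal.span {algebraMap A (BlowUp.affineAlgebra A I (f i0)) (f i0)}).comap
      (algebraMap A (BlowUp.affineAlgebra A I (f i0)))) :
    ∃ e : MvPolynomial {j // j ≠ i0} (A ⧸ I) ≃+*
        (_ ⧸ Ideal.span {algebraMap A (BlowUp.affineAlgebra A I (f i0)) (f i0)}),
      Ideal.quotientMap _ (algebraMap A (BlowUp.affineAlgebra A I (f i0))) h = e.toRingHom.comp C := by
  subst hI
  set I := Ideal.span (Set.range f)
  set B := BlowUp.affineAlgebra A I (f i0)
  set a' := algebraMap A B (f i0)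
  let ψ : MvPolynomial {j // j ≠ i0} A →ₐ[A] B :=
    (evalFrac f i0).codRestrict B fun P => (range_evalFrac f i0).le ⟨P, rfl⟩
  have hψ : Function.Surjective ψ := fun ⟨z, hz⟩ => by
    obtain ⟨P, hP⟩ := (range_evalFrac f i0).ge hz
    exact ⟨P, Subtype.ext hP⟩
  let χ : MvPolynomial {j // j ≠ i0} A →+* B ⧸ Ideal.span {a'} := (Ideal.Quotient.mk _).comp ψ.toRingHom
  have hker : RingHom.ker χ = I.map (C : A →+* MvPolynomial {j // j ≠ i0} A) := by
    refine le_antisymm (fun P hP => mem_map_C_iff.mpr fun m => ?_) (Ideal.map_le_iff_le_comap.mpr fun x hx => ?_)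
    · obtain ⟨y, hy⟩ := Ideal.mem_span_singleton'.mp (Ideal.Quotient.eq_zero_iff_mem.mp (RingHom.mem_ker.mp hP))
      obtain ⟨Q, rfl⟩ := hψ y
      have h0 : evalFrac f i0 (P - Q * C (f i0)) = 0 := by
        have := congrArg Subtype.val hy
        rw [map_sub, map_mul, ← MvPolynomial.algebraMap_eq, AlgHom.commutes, sub_eq_zero]
        exact this.symm
      have h1 := coeff_mem_of_evalFrac_eq_zero f i0 hq h0 m
      rw [coeff_sub, mul_comm, coeff_C_mul] at h1
      simpa using add_mem h1 (Ideal.mul_mem_right (Q.coeff m) I (Ideal.subset_span ⟨i0, rfl⟩))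
    · refine Ideal.mem_comap.mpr (RingHom.mem_ker.mpr (Ideal.Quotient.eq_zero_iff_mem.mpr ?_))
      show ψ (C x) ∈ _
      rw [← MvPolynomial.algebraMap_eq, AlgHom.commutes]
      exact h hx
  have hχ : Function.Surjective χ := Ideal.Quotient.mk_surjective.comp hψ
  let e : MvPolynomial {j // j ≠ i0} (A ⧸ I) ≃+* B ⧸ Ideal.span {a'} :=
    (MvPolynomial.quotientEquivQuotientMvPolynomial I).toRingEquiv.trans
      ((Ideal.quotEquivOfEq hker.symm).trans (RingHom.quotientKerEquivOfSurjective hχ))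
  refine ⟨e, Ideal.Quotient.ringHom_ext (RingHom.ext fun r => ?_)⟩
  have hq' : (MvPolynomial.quotientEquivQuotientMvPolynomial (σ := {j // j ≠ i0}) I)
      (C (Ideal.Quotient.mk I r)) = Ideal.Quotient.mk _ (C r) := by
    simp [MvPolynomial.quotientEquivQuotientMvPolynomial]
  show Ideal.quotientMap _ _ h (Ideal.Quotient.mk I r) = (RingHom.quotientKerEquivOfSurjective hχ)
    ((Ideal.quotEquivOfEq hker.symm) ((MvPolynomial.quotientEquivQuotientMvPolynomial I) (C (Ideal.Quotient.mk I r))))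
  rw [hq', Ideal.quotientMap_mk]
  refine Eq.trans ?_ (RingHom.kerLift_mk χ (C r)).symm
  show Ideal.Quotient.mk _ (algebraMap A B r) = Ideal.Quotient.mk _ (ψ (C r))
  rw [← MvPolynomial.algebraMap_eq, AlgHom.commutes]

/-- A morphism from affine space over a field to a proper group scheme has a one-point image. -/
theorem range_subsingleton {S : Scheme.{u}} (A : Over S) [GrpObj A] [IsProper A.hom] {F : Type u} [Field F]
    (σ : Type) [Finite σ] (x : Spec (CommRingCat.of F) ⟶ S)
    (v : Spec (CommRingCat.of (MvPolynomial σ F)) ⟶ A.left)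
    (hv : v ≫ A.hom = Spec.map (CommRingCat.ofHom (C : F →+* MvPolynomial σ F)) ≫ x) :
    (Set.range v.base).Subsingleton := by
  letI : GrpObj ((Over.pullback x).obj A) := Functor.grpObjObj
  haveI : IsProper ((Over.pullback x).obj A).hom :=
    inferInstanceAs (IsProper (pullback.snd A.hom x))
  let f : AbVarLib.AffineConstant.sp (k := F) (MvPolynomial σ F) ⟶ (Over.pullback x).obj A :=
    Over.homMk (pullback.lift v (Spec.map (CommRingCat.ofHom (algebraMap F (MvPolynomial σ F)))) hv)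
      (pullback.lift_snd _ _ _)
  have h := congrArg CommaMorphism.left (AbVarLib.AffineConstant.eq_const σ f)
  have h := h.trans (AbVarLib.AffineConstant.toUnit_sp (k := F) (MvPolynomial σ F) (AbVarLib.AffineConstant.origin σ ≫ f))
  have hv' : v = Spec.map (CommRingCat.ofHom (algebraMap F (MvPolynomial σ F))) ≫
      (AbVarLib.AffineConstant.origin σ ≫ f).left ≫ pullback.fst A.hom x := by
    conv_lhs => rw [← pullback.lift_fst v _ hv]
    show Over.Hom.left f ≫ pullback.fst A.hom x = _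
    refine (congrArg (· ≫ pullback.fst A.hom x) h).trans ?_
    exact Category.assoc _ _ _
  rintro _ ⟨p, rfl⟩ _ ⟨q, rfl⟩
  rw [hv']
  simp only [Scheme.Hom.comp_apply]
  congr 2
  exact Subsingleton.elim (α := Spec (CommRingCat.of F)) _ _

theorem mem_range_quot {B : Type u} [CommRing B] (J : Ideal B) (q : Spec (CommRingCat.of B)) (h : J ≤ q.asIdeal) :
    q ∈ Set.range (Spec.map (CommRingCat.ofHom (Ideal.Quotient.mk J))).base := by
  have h1 : (q : PrimeSpectrum B) ∈ PrimeSpectrum.zeroLocus ((RingHom.ker (Ideal.Quotient.mk J) : Ideal B) : Set B) := by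
    rw [Ideal.mk_ker]; exact h
  rw [← range_comap_of_surjective _ _ Ideal.Quotient.mk_surjective] at h1
  exact h1

/-- The fibre of a point blow-up of a regular surface goes to one point of a proper group scheme. -/
theorem fibre_subsingleton {S : Scheme.{u}} (A : Over S) [GrpObj A] [IsProper A.hom] {Y Z : Scheme.{u}}
    (hZ : Models7.RegSurf Z) [IrreducibleSpace Z] (z : Z) (hz : IsClosed ({z} : Set Z)) (hz0 : z ≠ genericPoint Z)
    (b : Y ⟶ Z) (hb : BlowUp.IsBlowUp b (Scheme.IdealSheafData.vanishingIdeal ⟨{z}, hz⟩)) (p : Z ⟶ S)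
    (h : Y ⟶ A.left) (hh : h ≫ A.hom = b ≫ p) : (h.base '' (b.base ⁻¹' {z})).Subsingleton := by
  haveI := hZ.integral
  haveI := hZ.noeth
  obtain ⟨hY, hbp, hiso⟩ := hZ.pointBlowUp z hz hz0 b hb
  haveI := hY.integral
  haveI := hbp
  let I := Scheme.IdealSheafData.vanishingIdeal ⟨{z}, hz⟩
  let i := I.subschemeι
  have hsupp : (I.support : Set Z) = {z} := Scheme.IdealSheafData.coe_support_vanishingIdeal _
  haveI : IsReduced I.subscheme := Props12.isReduced_subscheme_vanishingIdeal _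
  obtain ⟨z₀, hz₀⟩ := I.range_subschemeι.ge (hsupp.ge rfl)
  have hsub : Subsingleton I.subscheme := ⟨fun a c => i.isClosedEmbedding.injective
    ((Set.mem_singleton_iff.1 (hsupp.le (I.range_subschemeι.le ⟨a, rfl⟩))).trans
      (Set.mem_singleton_iff.1 (hsupp.le (I.range_subschemeι.le ⟨c, rfl⟩))).symm)⟩
  haveI : IrreducibleSpace I.subscheme :=
    { isPreirreducible_univ := Set.subsingleton_univ.isPreirreducible
      toNonempty := ⟨z₀⟩ }
  haveI : IsIntegral I.subscheme := isIntegral_of_irreducibleSpace_of_isReduced _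
  haveI : IsLocallyNoetherian I.subscheme := LocallyOfFiniteType.isLocallyNoetherian i
  have hI0 : ∀ w : I.subscheme, IsRegularLocalRing (I.subscheme.presheaf.stalk w) := by
    intro w
    rw [hsub.elim w (genericPoint I.subscheme)]
    exact inferInstanceAs (IsRegularLocalRing I.subscheme.functionField)
  obtain ⟨U, hzU, -, rs, hrs, hk⟩ := (SDiv28.RegImm.isRegularImmersion i hZ.regular hI0).2 z₀
  obtain ⟨U, hU'⟩ := U
  have hU : IsAffineOpen U := hU'
  rw [hz₀] at hzU
  have hk' : I.ideal ⟨U, hU⟩ = Ideal.ofList rs :=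
    (congrArg (fun J : Z.IdealSheafData => J.ideal ⟨U, hU⟩) (Scheme.IdealSheafData.ker_subschemeι I)).symm.trans
      ((Scheme.Hom.ker_apply i ⟨U, hU⟩).trans hk)
  let P := hU.primeIdealOf ⟨z, hzU⟩
  have hpre : ((fun w => hU.fromSpec w) ⁻¹' {z} : Set (PrimeSpectrum Γ(Z, U))) = {P} := by
    ext w
    refine ⟨fun hw => hU.fromSpec.isOpenEmbedding.injective ((Set.mem_singleton_iff.1 hw).trans
      (hU.fromSpec_primeIdealOf ⟨z, hzU⟩).symm), fun hw => ?_⟩
    rw [Set.mem_singleton_iff.1 hw]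
    exact hU.fromSpec_primeIdealOf ⟨z, hzU⟩
  have hIP : I.ideal ⟨U, hU⟩ = P.asIdeal := by
    rw [Scheme.IdealSheafData.vanishingIdeal_ideal]
    exact (congrArg PrimeSpectrum.vanishingIdeal hpre).trans (PrimeSpectrum.vanishingIdeal_singleton P)
  haveI hmax : (I.ideal ⟨U, hU⟩).IsMaximal := by
    rw [hIP]
    refine (PrimeSpectrum.isClosed_singleton_iff_isMaximal P).1 ?_
    exact (congrArg IsClosed hpre).mp (hz.preimage hU.fromSpec.continuous)
  letI := Ideal.Quotient.field (I.ideal ⟨U, hU⟩)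
  have hne : rs ≠ [] := by
    rintro rfl
    rw [Ideal.ofList_nil, hIP] at hk'
    have hgU : genericPoint Z ∈ U := (genericPoint_specializes z).mem_open U.2 hzU
    have h2 : P ≤ hU.primeIdealOf ⟨genericPoint Z, hgU⟩ := by
      show P.asIdeal ≤ _
      rw [hk']; exact bot_le
    have h3 := ((PrimeSpectrum.le_iff_specializes _ _).1 h2).map hU.fromSpec.continuous
    rw [hU.fromSpec_primeIdealOf, hU.fromSpec_primeIdealOf] at h3
    exact hz0 (h3.antisymm (genericPoint_specializes z)).eq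
  obtain ⟨n, f, -, hspan, hf⟩ := BlowUpCoh.exists_family_of_list rs hne (BlowUpCoh.isKoszulRegularSeq_of_isRegular hrs)
  have hq : CAlgX.IsQuasiRegular f := SDiv28.RegSeq.isQuasiRegular_of_isH1Regular f (SDiv28.RegSeq.isH1Regular_of_kreg hf)
  have hI : I.ideal ⟨U, hU⟩ = Ideal.span (Set.range f) := hk'.trans hspan
  -- charts of the fibre
  have hchart : ∀ y : Y, b y = z → ∃ O : Y.Opens, y ∈ O ∧ (h.base '' ((O : Set Y) ∩ b.base ⁻¹' {z})).Subsingleton := by
    intro y hy
    obtain ⟨a, ⟨i0, rfl⟩, j, hj, hjb, hyj⟩ := CAlgH.ExceptionalChart.exists_chart b hb y ⟨U, hU⟩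
      (show b y ∈ U by rw [hy]; exact hzU) (Set.range f) hI.symm
    refine ⟨j.opensRange, hyj, ?_⟩
    have ha : f i0 ∈ I.ideal ⟨U, hU⟩ := hI ▸ Ideal.subset_span ⟨i0, rfl⟩
    let R := BlowUpLib.ChartRing I ⟨U, hU⟩ (f i0)
    let J : Ideal R := Ideal.span {algebraMap Γ(Z, U) R (f i0)}
    have hle : I.ideal ⟨U, hU⟩ ≤ J.comap (algebraMap Γ(Z, U) R) :=
      Ideal.map_le_iff_le_comap.mp (BlowUpLib.map_ideal_eq_span ha).le
    obtain ⟨e, he⟩ := exists_equiv f i0 hq hI hle
    let ε : CommRingCat.of (MvPolynomial {l // l ≠ i0} (Γ(Z, U) ⧸ I.ideal ⟨U, hU⟩)) ≅ CommRingCat.of (R ⧸ J) :=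
      e.toCommRingCatIso
    let c : Spec (CommRingCat.of (MvPolynomial {l // l ≠ i0} (Γ(Z, U) ⧸ I.ideal ⟨U, hU⟩))) ⟶
        Spec (CommRingCat.of R) :=
      Spec.map ε.inv ≫ Spec.map (CommRingCat.ofHom (Ideal.Quotient.mk J))
    have hv : (c ≫ j ≫ h) ≫ A.hom = Spec.map (CommRingCat.ofHom (C : Γ(Z, U) ⧸ I.ideal ⟨U, hU⟩ →+* _)) ≫
        Spec.map (CommRingCat.ofHom (Ideal.Quotient.mk (I.ideal ⟨U, hU⟩))) ≫ hU.fromSpec ≫ p := by
      have hC : (CommRingCat.ofHom (algebraMap Γ(Z, U) R) ≫ CommRingCat.ofHom (Ideal.Quotient.mk J)) ≫ ε.inv =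
          CommRingCat.ofHom (Ideal.Quotient.mk (I.ideal ⟨U, hU⟩)) ≫
            CommRingCat.ofHom (C : Γ(Z, U) ⧸ I.ideal ⟨U, hU⟩ →+* _) := by
        rw [Iso.comp_inv_eq]
        refine CommRingCat.hom_ext (RingHom.ext fun r => ?_)
        show Ideal.Quotient.mk J (algebraMap Γ(Z, U) R r) = e (C (Ideal.Quotient.mk _ r))
        exact (Ideal.quotientMap_mk (f := algebraMap Γ(Z, U) R) (H := hle)).symm.trans
          (RingHom.congr_fun he (Ideal.Quotient.mk _ r))
      simp only [c, Category.assoc, hh]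
      rw [reassoc_of% hjb]
      simp only [BlowUpLib.chartMap, Category.assoc]
      rw [← Spec.map_comp_assoc, ← Spec.map_comp_assoc, ← Spec.map_comp_assoc, ← hC, Category.assoc]
    have hsing := range_subsingleton A _ _ (c ≫ j ≫ h) hv
    refine hsing.anti ?_
    rintro _ ⟨w, ⟨⟨q, rfl⟩, hwz⟩, rfl⟩
    have hw : hU.fromSpec (Spec.map (CommRingCat.ofHom (algebraMap Γ(Z, U) R)) q) = z := by
      rw [← Set.mem_singleton_iff.1 hwz, ← Scheme.Hom.comp_apply, ← Scheme.Hom.comp_apply, hjb]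
      rfl
    have hmem : f i0 ∈ (Spec.map (CommRingCat.ofHom (algebraMap Γ(Z, U) R)) q).asIdeal := by
      rw [show Spec.map (CommRingCat.ofHom (algebraMap Γ(Z, U) R)) q = P from hpre.le (Set.mem_singleton_iff.2 hw)]
      exact hIP.le ha
    obtain ⟨q', hq'⟩ := mem_range_quot J q (Ideal.span_le.2 (Set.singleton_subset_iff.2 hmem))
    refine ⟨Spec.map ε.hom q', ?_⟩
    simp only [c, ← Scheme.Hom.comp_apply, Category.assoc, ← Spec.map_comp_assoc, Iso.inv_hom_id, Spec.map_id,
      Category.id_comp]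
    rw [Scheme.Hom.comp_apply, Scheme.Hom.comp_apply]
    exact congrArg (fun w => h (j w)) hq'
  -- the fibre is connected
  obtain ⟨hgen, hbir⟩ := Coherent.birational_of_isIso_morphismRestrict b (⟨{z}ᶜ, hz.isOpen_compl⟩ : Z.Opens)
    ⟨genericPoint Z, hz0.symm⟩
  have hpc := Models7.isPreconnected_preimage b hZ.isNormal hgen
    ((ConcreteCategory.isIso_iff_bijective _).2 hbir) z
  haveI := isPreconnected_iff_preconnectedSpace.1 hpc
  let g : ↥(b.base ⁻¹' {z}) → A.left := fun y => h y.1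
  have hg : IsLocallyConstant g := (IsLocallyConstant.iff_exists_open g).2 fun y => by
    obtain ⟨O, hyO, hO⟩ := hchart y.1 y.2
    exact ⟨Subtype.val ⁻¹' (O : Set Y), O.2.preimage continuous_subtype_val, hyO,
      fun y' hy' => hO ⟨y'.1, ⟨hy', y'.2⟩, rfl⟩ ⟨y.1, ⟨hyO, y.2⟩, rfl⟩⟩
  rintro _ ⟨y₁, h₁, rfl⟩ _ ⟨y₂, h₂, rfl⟩
  exact hg.apply_eq_of_preconnectedSpace ⟨y₁, h₁⟩ ⟨y₂, h₂⟩

/-- Morphisms to proper group schemes descend along point blow-ups of a regular surface. -/
theorem descend_ptSeq {S : Scheme.{u}} (A : Over S) [GrpObj A] [IsProper A.hom] [A.left.IsSeparated] [S.IsSeparated]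
    {Y X : Scheme.{u}} {r : Y ⟶ X} (hr : Models7.PtSeq r) :
    Models7.RegSurf X → Models7.RegSurf Y ∧ Surjective r ∧ ∀ (p : X ⟶ S) (h : Y ⟶ A.left), h ≫ A.hom = r ≫ p →
      ∃ h' : X ⟶ A.left, r ≫ h' = h := by
  induction hr with
  | @iso Y X e =>
    intro hX
    haveI := hX.integral
    haveI := hX.noeth
    haveI := hX.compact
    haveI : Nonempty Y := ⟨e.inv (genericPoint X)⟩
    refine ⟨⟨isIntegral_of_isOpenImmersion e.hom, LocallyOfFiniteType.isLocallyNoetherian e.hom,
      QuasiCompact.compactSpace_of_compactSpace e.hom, fun y => ?_,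
      (e.hom.isOpenEmbedding.isInducing.topologicalKrullDim_le).trans hX.dim⟩,
      inferInstance, fun p h _ => ⟨e.inv ≫ h, e.hom_inv_id_assoc h⟩⟩
    haveI := hX.regular (e.hom y)
    exact IsRegularLocalRing.of_ringEquiv (R := X.presheaf.stalk (e.hom y))
      (asIso (e.hom.stalkMap y)).commRingCatIsoToRingEquiv
  | @step Y Z X b r z hz hz0 hb hr ih =>
    intro hX
    obtain ⟨hZ, hrs, hd⟩ := ih hX
    haveI := hZ.integral
    haveI := hZ.noeth
    obtain ⟨hY, hbp, hiso⟩ := hZ.pointBlowUp z hz hz0 b hb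
    haveI := hY.integral
    haveI := hbp
    refine ⟨hY, ?_, fun p h hh => ?_⟩
    · haveI := hrs
      haveI : Surjective b := Models7.surjective_of_gen b (Coherent.birational_of_isIso_morphismRestrict b
        (⟨{z}ᶜ, hz.isOpen_compl⟩ : Z.Opens) ⟨genericPoint Z, (hz0).symm⟩).1
      infer_instance
    obtain ⟨hgen, hbir⟩ := Coherent.birational_of_isIso_morphismRestrict b (⟨{z}ᶜ, hz.isOpen_compl⟩ : Z.Opens)
      ⟨genericPoint Z, (hz0).symm⟩
    have hconst : ∀ w : Z, (h.base '' (b.base ⁻¹' {w})).Subsingleton := by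
      intro w
      by_cases hw : w = z
      · subst hw
        exact fibre_subsingleton A hZ w hz hz0 b hb (r ≫ p) h (by rw [hh, Category.assoc])
      · refine Set.Subsingleton.image (fun y₁ h₁ y₂ h₂ => ?_) _
        let O : Z.Opens := ⟨{z}ᶜ, hz.isOpen_compl⟩
        have e₁ : y₁ ∈ b ⁻¹ᵁ O := by show b y₁ ∈ O; rw [show b y₁ = w from h₁]; exact hw
        have e₂ : y₂ ∈ b ⁻¹ᵁ O := by show b y₂ ∈ O; rw [show b y₂ = w from h₂]; exact hw
        haveI : IsIso (b ∣_ O) := hiso
        exact congrArg Subtype.val ((b ∣_ O).isOpenEmbedding.injective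
          (show (b ∣_ O) ⟨y₁, e₁⟩ = (b ∣_ O) ⟨y₂, e₂⟩ from Subtype.ext (by
            exact Subtype.ext_iff.1 (Subtype.ext (by rw [morphismRestrict_base_coe, morphismRestrict_base_coe]; exact h₁.trans h₂.symm)))))
    obtain ⟨g, hg, -⟩ := Models7.exists_desc b hZ.isNormal hgen
      ((ConcreteCategory.isIso_iff_bijective _).2 hbir) h hconst
    haveI : Surjective b := Models7.surjective_of_gen b hgen
    obtain ⟨h', hh'⟩ := hd p g (by
      haveI : IsReduced Z := inferInstance
      refine ext_of_isDominant_of_isSeparated (terminal.from S) (terminal.hom_ext _ _) b ?_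
      rw [← Category.assoc, hg, hh, Category.assoc])
    exact ⟨h', by rw [Category.assoc, hh', hg]⟩

end Groth.Agent.AbExt6
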