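import Groth.Agent.AbExt6.Fibre
import Groth.Agent.Models7.RatMapExtend
import Groth.Agent.RatExtLib.DimOne
import Groth.Agent.AlgSpLib.SmoothRegular
import Groth.Agent.NeronLib.ExtendAt
import Groth.Agent.NeronLib.Regular
import Groth.Agent.CAlgH3.RegularCore

/-!
# Rational maps from regular schemes to proper group schemes are morphisms
-/

set_option autoImplicit false
set_option linter.style.haveILetI false
set_option backward.isDefEq.respectTransparency.types false
set_option maxHeartbeats 1000000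

universe u

open CategoryTheory CategoryTheory.Limits AlgebraicGeometry TopologicalSpace IsLocalRing

namespace Groth.Agent.AbExt6

theorem regular_spec {R : CommRingCat.{u}} [IsRegularLocalRing R] (y : Spec R) :
    IsRegularLocalRing ((Spec R).presheaf.stalk y) := by
  haveI := CAlgH3.isRegularRing_of_isRegularLocalRing (R := R)
  exact IsRegularLocalRing.of_ringEquiv (R := Localization.AtPrime y.asIdeal)
    (StructureSheaf.stalkIso R y).toRingEquiv

theorem exists_prime_ne_max {R : Type u} [CommRing R] [IsLocalRing R] [IsNoetherianRing R] (π : R)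
    (hπ : π ∈ maximalIdeal R) (hd : 2 ≤ ringKrullDim R) :
    ∃ p : Ideal R, p.IsPrime ∧ π ∈ p ∧ p ≠ maximalIdeal R := by
  obtain ⟨p, hp⟩ := Ideal.nonempty_minimalPrimes (I := Ideal.span {π})
    (fun h => (maximalIdeal.isMaximal R).ne_top (top_le_iff.1 (h ▸ (Ideal.span_singleton_le_iff_mem _).2 hπ)))
  haveI : p.IsPrime := hp.1.1
  refine ⟨p, inferInstance, hp.1.2 (Ideal.mem_span_singleton_self π), fun he => ?_⟩
  have h1 := Ideal.height_le_one_of_isPrincipal_of_mem_minimalPrimes _ p hp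
  rw [he] at h1
  rw [← IsLocalRing.maximalIdeal_height_eq_ringKrullDim] at hd
  have h2 : (2 : ℕ∞) ≤ (maximalIdeal R).height := WithBot.coe_le_coe.1 hd
  exact absurd (h2.trans h1) (by decide)

/-- The local extension statement in dimension `d`. -/
def LocalExt {S : Scheme.{u}} (A : Over S) (d : ℕ) : Prop :=
  ∀ (T : Scheme.{u}) [IsLocallyNoetherian T], (∀ y : T, IsRegularLocalRing (T.presheaf.stalk y)) →
    ∀ (t : T ⟶ S) (x : T), ringKrullDim (T.presheaf.stalk x) = d → ∀ (U : T.Opens), Dense (U : Set T) →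
    (∀ y : T, y ⤳ x → y ≠ x → y ∈ U) → ∀ g : U.toScheme ⟶ A.left, g ≫ A.hom = U.ι ≫ t →
    ∃ (W : T.Opens) (_ : x ∈ W) (g' : W.toScheme ⟶ A.left), g' ≫ A.hom = W.ι ≫ t ∧ NeronLib.Agree g' g

/-- The punctured surface case. -/
theorem surface {S : Scheme.{u}} [S.IsSeparated] (A : Over S) [GrpObj A] [IsProper A.hom] [A.left.IsSeparated]
    {R : CommRingCat.{u}} [IsRegularLocalRing R] (hd : ringKrullDim R = 2) (s : Spec R ⟶ S)
    (U : (Spec R).Opens) (hU : (U : Set (Spec R)).Nonempty) (φ : U.toScheme ⟶ A.left)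
    (hφ : φ ≫ A.hom = U.ι ≫ s) : ∃ e : Spec R ⟶ A.left, e ≫ A.hom = s ∧ U.ι ≫ e = φ := by
  haveI := CAlgH3.isDomain_of_isRegularLocalRing R
  have hX : Models7.RegSurf (Spec R) := ⟨inferInstance, inferInstance, inferInstance, regular_spec,
    le_of_eq ((PrimeSpectrum.topologicalKrullDim_eq_ringKrullDim R).trans hd)⟩
  obtain ⟨Y, r, g, hY, hYS, hr, hrp, hgS, hg⟩ := Models7.exists_ptSeq_extend hX (𝟙 (Spec R))
    (pullback.snd A.hom s) U hU (pullback.lift φ U.ι hφ) (by rw [pullback.lift_snd, Category.comp_id])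
  obtain ⟨-, hsurj, hdesc⟩ := descend_ptSeq A hr hX
  rw [Category.comp_id] at hgS
  have hgA : (g ≫ pullback.fst A.hom s) ≫ A.hom = r ≫ s := by
    rw [Category.assoc, pullback.condition, ← Category.assoc, hgS]
  obtain ⟨e, he⟩ := hdesc s (g ≫ pullback.fst A.hom s) hgA
  refine ⟨e, ?_, ?_⟩
  · haveI := hsurj
    refine ext_of_isDominant_of_isSeparated (terminal.from S) (terminal.hom_ext _ _) r ?_
    rw [← Category.assoc, he, hgA]
  · haveI : Surjective (r ∣_ U) := IsZariskiLocalAtTarget.restrict (P := @Surjective) hsurj _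
    refine ext_of_isDominant_of_isSeparated (terminal.from A.left) (terminal.hom_ext _ _) (r ∣_ U) ?_
    rw [← Category.assoc, morphismRestrict_ι, Category.assoc, he, ← Category.assoc, hg, Category.assoc,
      pullback.lift_fst]

theorem fromSpecStalk_ne {T : Scheme.{u}} (x : T) (r : Spec (T.presheaf.stalk x))
    (hr : r.asIdeal ≠ maximalIdeal _) : T.fromSpecStalk x r ⤳ x ∧ T.fromSpecStalk x r ≠ x := by
  refine ⟨(Scheme.range_fromSpecStalk (X := T) (x := x)).le ⟨r, rfl⟩, fun h => hr ?_⟩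
  have : r = closedPoint (T.presheaf.stalk x) :=
    (T.fromSpecStalk x).isEmbedding.injective (h.trans Scheme.fromSpecStalk_closedPoint.symm)
  rw [this]; rfl

theorem localExt {S : Scheme.{u}} [S.IsSeparated] (A : Over S) [GrpObj A] [IsProper A.hom] [A.left.IsSeparated]
    (d : ℕ) : LocalExt A d := by
  induction d using Nat.strong_induction_on with
  | _ d IH =>
  intro T _ hT t x hx U hU hgen g hg
  haveI : IsReduced T := NeronLib.isReduced_of_regular hT
  haveI := hT x
  haveI := CAlgH3.isDomain_of_isRegularLocalRing (T.presheaf.stalk x)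
  rcases Nat.lt_or_ge d 2 with hd | hd
  · -- valuation ring
    haveI := RatExtLib.valuationRing_of_regular_dim_le_one (T.presheaf.stalk x)
      (by rw [hx]; exact_mod_cast Nat.lt_succ_iff.1 hd)
    obtain ⟨W, hxW, g', hg', hag⟩ := RatExtLib.exists_local_extension (pullback.snd A.hom t)
      (pullback.snd A.hom t).isClosedMap U hU (pullback.lift g U.ι hg) (pullback.lift_snd _ _ _) x
    refine ⟨W, hxW, g' ≫ pullback.fst A.hom t, ?_, fun V a b hab => ?_⟩
    · rw [Category.assoc, pullback.condition, ← Category.assoc, hg']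
    · rw [← Category.assoc, hag V a b hab, Category.assoc, pullback.lift_fst]
  -- a morphism on the spectrum of a regular quotient
  let R := T.presheaf.stalk x
  have hx2 : 2 ≤ ringKrullDim R := by rw [hx]; exact_mod_cast hd
  suffices H : ∃ (R' : CommRingCat.{u}) (_ : IsLocalRing R') (_ : IsNoetherianRing R') (q : R ⟶ R')
      (_ : 2 ≤ ringKrullDim R') (_ : Function.Surjective q.hom) (e : Spec R' ⟶ A.left),
      ∀ (p : Spec R'), p.asIdeal ≠ maximalIdeal R' → ∃ (u : U.toScheme),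
        U.ι u = T.fromSpecStalk x (Spec.map q p) ∧ g u = e p by
    obtain ⟨R', _, _, q, hd', hq, e, he⟩ := H
    obtain ⟨V, hV, hpV, -⟩ := exists_isAffineOpen_mem_and_subset (x := e (closedPoint R')) (U := ⊤) trivial
    refine NeronLib.exists_extend_at t A.hom x (hT x) U g hg V hV fun π hπ => ?_
    haveI : IsLocalHom q.hom := IsLocalHom.of_surjective q.hom hq
    obtain ⟨p, hp, hπp, hpm⟩ := exists_prime_ne_max (q.hom π)
      (map_nonunit q.hom π hπ) hd'
    obtain ⟨u, hu, hgu⟩ := he ⟨p, hp⟩ hpm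
    refine ⟨Spec.map q ⟨p, hp⟩, hπp, u, ?_, hu⟩
    show g u ∈ V
    rw [hgu]
    exact (((PrimeSpectrum.le_iff_specializes ⟨p, hp⟩ (closedPoint R')).1
      (IsLocalRing.le_maximalIdeal hp.ne_top)).map e.continuous).mem_open V.2 hpV
  -- common part
  have key : ∀ (R' : CommRingCat.{u}) [IsRegularLocalRing R'] (q : R ⟶ R'), Function.Surjective q.hom →
      ∀ (U' : (Spec R').Opens) (φ : U'.toScheme ⟶ U.toScheme),
        φ ≫ U.ι = U'.ι ≫ Spec.map q ≫ T.fromSpecStalk x → (∀ p : Spec R', p.asIdeal ≠ maximalIdeal R' → p ∈ U') →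
        ∀ e : Spec R' ⟶ A.left, U'.ι ≫ e = φ ≫ g →
        ∀ (p : Spec R'), p.asIdeal ≠ maximalIdeal R' → ∃ (u : U.toScheme),
          U.ι u = T.fromSpecStalk x (Spec.map q p) ∧ g u = e p := by
    intro R' _ q _ U' φ hφ hmem e he p hp
    refine ⟨φ ⟨p, hmem p hp⟩, ?_, ?_⟩
    · rw [← Scheme.Hom.comp_apply, hφ]; rfl
    · rw [← Scheme.Hom.comp_apply, ← he]; rfl
  have mkφ : ∀ (R' : CommRingCat.{u}) [IsRegularLocalRing R'] (q : R ⟶ R'), Function.Surjective q.hom →
      ∃ (U' : (Spec R').Opens) (φ : U'.toScheme ⟶ U.toScheme),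
        φ ≫ U.ι = U'.ι ≫ Spec.map q ≫ T.fromSpecStalk x ∧
        ∀ p : Spec R', p.asIdeal ≠ maximalIdeal R' → p ∈ U' := by
    intro R' _ q hq
    haveI : IsLocalHom q.hom := IsLocalHom.of_surjective q.hom hq
    let f := Spec.map q ≫ T.fromSpecStalk x
    refine ⟨f ⁻¹ᵁ U, f ∣_ U, morphismRestrict_ι f U, fun p hp => ?_⟩
    have hne : (Spec.map q p).asIdeal ≠ maximalIdeal R := by
      intro h
      refine hp (Ideal.comap_injective_of_surjective q.hom hq ?_)
      exact h.trans (IsLocalRing.maximalIdeal_comap q.hom).symm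
    obtain ⟨h1, h2⟩ := fromSpecStalk_ne x (Spec.map q p) hne
    exact hgen _ h1 h2
  have hne : ∀ (R' : CommRingCat.{u}) [IsRegularLocalRing R'], 2 ≤ ringKrullDim R' → ∀ U' : (Spec R').Opens,
      (∀ p : Spec R', p.asIdeal ≠ maximalIdeal R' → p ∈ U') → (U' : Set (Spec R')).Nonempty := by
    intro R' _ hd' U' hmem
    haveI := CAlgH3.isDomain_of_isRegularLocalRing R'
    obtain ⟨p, hp, -, hpm⟩ := exists_prime_ne_max (0 : R') (Ideal.zero_mem _) hd'
    exact ⟨⟨p, hp⟩, hmem _ hpm⟩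
  rcases Nat.eq_or_lt_of_le hd with rfl | hd3
  · -- dimension two
    obtain ⟨U', φ, hφ, hmem⟩ := mkφ R (𝟙 R) Function.surjective_id
    obtain ⟨e, -, he⟩ := surface A (R := R) (by rw [hx]; rfl) (Spec.map (𝟙 R) ≫ T.fromSpecStalk x ≫ t) U'
      (hne R hx2 U' hmem) (φ ≫ g) (by rw [Category.assoc, hg, ← Category.assoc, hφ]; simp)
    exact ⟨R, inferInstance, inferInstance, 𝟙 R, hx2, Function.surjective_id, e,
      key R (𝟙 R) Function.surjective_id U' φ hφ hmem e he⟩
  · -- a regular parameter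
    have hlt : maximalIdeal R ^ 2 < maximalIdeal R := by
      refine lt_of_le_of_ne (Ideal.pow_le_self two_ne_zero) fun he => ?_
      have hb : maximalIdeal R = ⊥ := Submodule.eq_bot_of_le_smul_of_le_jacobson_bot (maximalIdeal R) (maximalIdeal R)
        (IsNoetherian.noetherian _) (by rw [smul_eq_mul, ← pow_two, he]) (IsLocalRing.maximalIdeal_le_jacobson _)
      obtain ⟨p, hp, -, hpm⟩ := exists_prime_ne_max (0 : R) (Ideal.zero_mem _) hx2
      exact hpm (le_antisymm (IsLocalRing.le_maximalIdeal hp.ne_top) (hb ▸ bot_le))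
    obtain ⟨a, ham, ha2⟩ := SetLike.exists_of_lt hlt
    have ha0 : a ≠ 0 := fun h => ha2 (h ▸ Ideal.zero_mem _)
    have hI : Ideal.span {a} ≠ ⊤ := fun h =>
      (maximalIdeal.isMaximal R).ne_top (top_le_iff.1 (h ▸ (Ideal.span_singleton_le_iff_mem _).2 ham))
    haveI : IsRegularLocalRing (R ⧸ Ideal.span {a}) := AlgSpLib.SmoothRegular.isRegularLocalRing_quotient _ hI fun w hw hw2 => by
      obtain ⟨c, rfl⟩ := Ideal.mem_span_singleton'.1 hw
      refine Ideal.mul_mem_mul ?_ (Ideal.mem_span_singleton_self a)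
      by_contra hc
      exact ha2 ((Ideal.unit_mul_mem_iff_mem _ (IsLocalRing.notMem_maximalIdeal.1 hc)).1 hw2)
    let R' : CommRingCat.{u} := CommRingCat.of (R ⧸ Ideal.span {a})
    haveI : IsRegularLocalRing R' := ‹IsRegularLocalRing (R ⧸ Ideal.span {a})›
    let q : R ⟶ R' := CommRingCat.ofHom (Ideal.Quotient.mk (Ideal.span {a}))
    have hq : Function.Surjective q.hom := Ideal.Quotient.mk_surjective
    have hd' : ringKrullDim R' = ((d - 1 : ℕ) : WithBot ℕ∞) := by
      have h := ringKrullDim_quotient_span_singleton_succ_eq_ringKrullDim_of_mem_nonZeroDivisors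
        (mem_nonZeroDivisors_of_ne_zero ha0) ham
      rw [hx, show d = (d - 1) + 1 by omega] at h
      push_cast at h ⊢
      exact ENat.WithBot.add_one_cancel.1 h
    have hd2 : 2 ≤ ringKrullDim R' := by rw [hd']; exact_mod_cast (by omega : 2 ≤ d - 1)
    obtain ⟨U', φ, hφ, hmem⟩ := mkφ R' q hq
    haveI := CAlgH3.isDomain_of_isRegularLocalRing R'
    obtain ⟨W, hW, e₀, he₀, hag⟩ := IH (d - 1) (by omega) (Spec R') regular_spec (Spec.map q ≫ T.fromSpecStalk x ≫ t)
      (closedPoint R') (by rw [ringKrullDim_eq_of_ringEquiv (stalkClosedPointIso R').commRingCatIsoToRingEquiv, hd'])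
      U' (U'.isOpen.dense (hne R' hd2 U' hmem))
      (fun y _ hy => hmem y fun h => hy (PrimeSpectrum.ext h)) (φ ≫ g)
      (by rw [Category.assoc, hg, ← Category.assoc, hφ]; simp)
    have htop : ∀ p : Spec R', p ∈ W := fun p =>
      ((PrimeSpectrum.le_iff_specializes p (closedPoint R')).1
        (IsLocalRing.le_maximalIdeal p.2.ne_top)).mem_open W.2 hW
    haveI : Surjective W.ι := ⟨fun p => ⟨⟨p, htop p⟩, rfl⟩⟩
    haveI : IsIso W.ι := IsOpenImmersion.isIso W.ι
    refine ⟨R', inferInstance, inferInstance, q, hd2, hq, inv W.ι ≫ e₀,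
      key R' q hq U' φ hφ hmem _ ?_⟩
    rw [← Category.assoc]
    exact hag _ (U'.ι ≫ inv W.ι) (𝟙 _) (by simp)

/-- Every point has a neighbourhood to which a rational map extends. -/
theorem exists_local {S : Scheme.{u}} (A : Over S) [GrpObj A] [IsProper A.hom] {T : Scheme.{u}}
    [IsLocallyNoetherian T] (hT : ∀ y : T, IsRegularLocalRing (T.presheaf.stalk y)) (t : T ⟶ S)
    (U : T.Opens) (hU : Dense (U : Set T)) (g : U.toScheme ⟶ A.left) (hg : g ≫ A.hom = U.ι ≫ t) (x : T) :
    ∃ (W : T.Opens) (_ : x ∈ W) (g' : W.toScheme ⟶ A.left), g' ≫ A.hom = W.ι ≫ t ∧ NeronLib.Agree g' g := by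
  haveI : IsReduced T := NeronLib.isReduced_of_regular hT
  obtain ⟨n, hn⟩ : ∃ n : ℕ, ringKrullDim (T.presheaf.stalk x) = n := by
    haveI := hT x
    exact ⟨_, IsRegularLocalRing.spanFinrank_maximalIdeal.symm⟩
  induction n using Nat.strong_induction_on generalizing x with
  | _ n IH =>
  have hlt : ∀ y : {y : T // y ⤳ x ∧ y ≠ x}, ∃ m : ℕ, m < n ∧ ringKrullDim (T.presheaf.stalk y.1) = m := by
    rintro ⟨y, hy, hyx⟩
    haveI := hT y
    refine ⟨_, ?_, IsRegularLocalRing.spanFinrank_maximalIdeal.symm⟩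
    have h1 : Order.coheight x = (n : ℕ∞) := by
      have := ringKrullDim_stalk_eq_coheight x
      rw [hn] at this; exact_mod_cast this.symm
    have h2 : ((maximalIdeal (T.presheaf.stalk y)).spanFinrank : ℕ∞) = Order.coheight y := by
      have := (IsRegularLocalRing.spanFinrank_maximalIdeal (R := T.presheaf.stalk y)).trans
        (ringKrullDim_stalk_eq_coheight y)
      exact_mod_cast this
    have hxy : x < y := lt_iff_le_not_ge.2 ⟨Scheme.le_iff_specializes.2 hy,
      fun h => hyx (hy.antisymm (Scheme.le_iff_specializes.1 h)).eq⟩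
    have h3 : Order.coheight y < Order.coheight x :=
      Order.coheight_strictAnti hxy (lt_top_iff_ne_top.2 (by rw [← h2]; exact ENat.coe_ne_top _))
    rw [h1, ← h2] at h3
    exact_mod_cast h3
  choose m hm hmd using hlt
  choose W hyW gW hgW hagW using fun y => IH (m y) (hm y) y.1 (hmd y)
  let V : Option {y : T // y ⤳ x ∧ y ≠ x} → T.Opens := fun o => o.elim U W
  let gV : ∀ o, (V o).toScheme ⟶ A.left := fun o => match o with
    | none => g
    | some y => gW y
  obtain ⟨g₁, hg₁, hres⟩ := NeronLib.exists_glue t A.hom U hU g V gV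
    (fun o => match o with
      | none => hg
      | some y => hgW y)
    (fun o => match o with
      | none => fun Z a b hab => by rw [(cancel_mono U.ι).1 hab]; rfl
      | some y => hagW y)
  have hUle : U ≤ ⨆ o, V o := le_iSup V none
  -- pass to an affine piece of the base
  obtain ⟨Sa, hSa, htSa, -⟩ := exists_isAffineOpen_mem_and_subset (x := t x) (U := ⊤) trivial
  haveI : IsAffine Sa.toScheme := hSa
  letI : GrpObj ((Over.pullback Sa.ι).obj A) := Functor.grpObjObj
  haveI : IsProper ((Over.pullback Sa.ι).obj A).hom := inferInstanceAs (IsProper (pullback.snd A.hom Sa.ι))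
  haveI : ((Over.pullback Sa.ι).obj A).left.IsSeparated := ⟨by
    rw [show terminal.from _ = ((Over.pullback Sa.ι).obj A).hom ≫ terminal.from _ from terminal.hom_ext _ _]
    infer_instance⟩
  let T' : T.Opens := t ⁻¹ᵁ Sa
  let U' : T'.toScheme.Opens := T'.ι ⁻¹ᵁ (⨆ o, V o)
  let x' : T'.toScheme := ⟨x, htSa⟩
  let k : U'.toScheme ⟶ A.left := (T'.ι ∣_ (⨆ o, V o)) ≫ g₁
  have hk : k ≫ A.hom = (U'.ι ≫ (t ∣_ Sa)) ≫ Sa.ι := by
    rw [Category.assoc, hg₁, morphismRestrict_ι_assoc, Category.assoc, morphismRestrict_ι]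
  have hdim : ringKrullDim (T'.toScheme.presheaf.stalk x') = n := by
    rw [ringKrullDim_eq_of_ringEquiv (T'.stalkIso x').commRingCatIsoToRingEquiv]; exact hn
  obtain ⟨W', hxW', e, he, hag⟩ := localExt ((Over.pullback Sa.ι).obj A) n T'.toScheme
    (fun y => by
      haveI := hT y.1
      exact IsRegularLocalRing.of_ringEquiv (R := T.presheaf.stalk y.1) (T'.stalkIso y).symm.commRingCatIsoToRingEquiv)
    (t ∣_ Sa) x' hdim U' ((hU.mono hUle).preimage T'.ι.isOpenEmbedding.isOpenMap)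
    (fun y hy hyx => le_iSup V (some ⟨y.1, hy.map T'.ι.continuous, fun h => hyx (Subtype.ext h)⟩)
      (hyW ⟨y.1, hy.map T'.ι.continuous, fun h => hyx (Subtype.ext h)⟩))
    (pullback.lift k (U'.ι ≫ (t ∣_ Sa)) hk) (pullback.lift_snd _ _ _)
  refine ⟨T'.ι ''ᵁ W', ⟨x', hxW', rfl⟩, (T'.ι.isoImage W').inv ≫ e ≫ pullback.fst A.hom Sa.ι, ?_, ?_⟩
  · rw [Category.assoc, Category.assoc, pullback.condition, Iso.inv_comp_eq, ← Category.assoc,
      show e ≫ pullback.snd A.hom Sa.ι = W'.ι ≫ (t ∣_ Sa) from he, Category.assoc, morphismRestrict_ι,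
      Scheme.Hom.isoImage_hom_ι_assoc]
  · intro Z a b hab
    let c := a ≫ (T'.ι.isoImage W').inv
    have hc : c ≫ W'.ι ≫ T'.ι = b ≫ U.ι := by
      simp only [c, Category.assoc, Scheme.Hom.isoImage_inv_ι]; exact hab
    let b' : Z ⟶ U'.toScheme := IsOpenImmersion.lift U'.ι (c ≫ W'.ι) (by
      rw [Scheme.Opens.range_ι]
      rintro _ ⟨w, rfl⟩
      show T'.ι ((c ≫ W'.ι) w) ∈ ⨆ o, V o
      rw [← Scheme.Hom.comp_apply, Category.assoc, hc]
      exact hUle (b w).2)
    have hb' : b' ≫ U'.ι = c ≫ W'.ι := IsOpenImmersion.lift_fac _ _ _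
    have h1 := hag Z c b' hb'.symm
    have h2 : b' ≫ (T'.ι ∣_ (⨆ o, V o)) = b ≫ T.homOfLE hUle := by
      rw [← cancel_mono (⨆ o, V o).ι, Category.assoc, morphismRestrict_ι, ← Category.assoc, hb', Category.assoc, hc,
        Category.assoc, Scheme.homOfLE_ι]
    rw [← Category.assoc, ← Category.assoc, show (a ≫ (T'.ι.isoImage W').inv) ≫ e = b' ≫ _ from h1, Category.assoc,
      pullback.lift_fst, ← Category.assoc, h2, Category.assoc]
    exact congrArg (b ≫ ·) (hres none)

/-- A rational map from a regular scheme to a proper group scheme is a morphism. -/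
theorem existsUnique_extend {S : Scheme.{u}} (A : Over S) [GrpObj A] [IsProper A.hom] {T : Scheme.{u}}
    [IsLocallyNoetherian T] (hT : ∀ y : T, IsRegularLocalRing (T.presheaf.stalk y)) (t : T ⟶ S)
    (U : T.Opens) (hU : Dense (U : Set T)) (g : U.toScheme ⟶ A.left) (hg : g ≫ A.hom = U.ι ≫ t) :
    ∃! g' : T ⟶ A.left, g' ≫ A.hom = t ∧ U.ι ≫ g' = g := by
  haveI : IsReduced T := NeronLib.isReduced_of_regular hT
  choose W hxW gW hgW hagW using exists_local A hT t U hU g hg
  obtain ⟨g₁, hg₁, hres⟩ := NeronLib.exists_glue t A.hom U hU g W gW hgW hagW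
  have htop : ∀ x : T, x ∈ ⨆ i, W i := fun x => Opens.mem_iSup.2 ⟨x, hxW x⟩
  haveI : Surjective (⨆ i, W i).ι := ⟨fun x => ⟨⟨x, htop x⟩, rfl⟩⟩
  haveI : IsIso (⨆ i, W i).ι := IsOpenImmersion.isIso _
  have hUg : U.ι ≫ inv (⨆ i, W i).ι ≫ g₁ = g := by
    let 𝒰 := (Scheme.openCoverOfIsOpenCover T W (top_le_iff.1 fun x _ => htop x)).pullback₁ U.ι
    refine Scheme.Cover.hom_ext 𝒰 _ _ fun i => ?_
    show pullback.fst U.ι (W i).ι ≫ _ = pullback.fst U.ι (W i).ι ≫ _
    rw [pullback.condition_assoc]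
    rw [← hagW i _ (pullback.snd U.ι (W i).ι) (pullback.fst U.ι (W i).ι) pullback.condition.symm, ← hres i,
      ← Category.assoc (W i).ι, show (W i).ι ≫ inv (⨆ i, W i).ι = T.homOfLE (le_iSup W i) from
        (IsIso.comp_inv_eq _).2 (T.homOfLE_ι (le_iSup W i)).symm]
  have hS : (inv (⨆ i, W i).ι ≫ g₁) ≫ A.hom = t := by rw [Category.assoc, hg₁, IsIso.inv_hom_id_assoc]
  exact ⟨_, ⟨hS, hUg⟩, fun g' hg' =>
    NeronLib.ext_of_dense A.hom _ _ (hg'.1.trans hS.symm) U hU (hg'.2.trans hUg.symm)⟩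

end Groth.Agent.AbExt6
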